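import Cfsg.Agent.Lib.Steiner.CodeUnique

/-!
Bounds for binary codes of length 24 and minimum weight at least 8.
-/

set_option autoImplicit false

namespace Cfsg.Agent.LeechChar

open Cfsg Finset Cfsg.Agent.Steiner

variable {α : Type*} [Fintype α] [DecidableEq α]

theorem eq_of_word_mem (C : Submodule (ZMod 2) (α → ZMod 2)) (hmin : ∀ w ∈ C, w ≠ 0 → 8 ≤ hammingNorm w)
    {s t : Finset α} (h : word₂ s - word₂ t ∈ C) (hlt : (symmDiff s t).card < 8) : s = t := by
  rw [word₂_sub] at h
  refine symmDiff_eq_bot.1 ?_
  by_contra hne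
  have hne' : word₂ (symmDiff s t) ≠ 0 := fun h0 =>
    hne (by rw [← support₂_word₂ (symmDiff s t), h0]; simp [support₂])
  have := hmin _ h hne'
  rw [hammingNorm_word₂] at this
  omega

theorem finrank_le_twelve (hα : Fintype.card α = 24) (C : Submodule (ZMod 2) (α → ZMod 2))
    (hmin : ∀ w ∈ C, w ≠ 0 → 8 ≤ hammingNorm w) : Module.finrank (ZMod 2) C ≤ 12 := by
  classical
  let q : Finset α → (α → ZMod 2) ⧸ C := fun s => Submodule.Quotient.mk (word₂ s)
  let P3 := (univ : Finset α).powerset.filter fun s => s.card ≤ 3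
  have c3 : P3.card = 2325 := by
    rw [Finset.card_eq_sum_card_fiberwise (f := Finset.card) (t := Finset.range 4)
      (fun s hs => Finset.mem_range.2 (by have := (Finset.mem_filter.1 hs).2; omega))]
    have : ∀ i ∈ Finset.range 4, (P3.filter fun s => s.card = i).card = Nat.choose 24 i := by
      intro i hi
      rw [Finset.mem_range] at hi
      rw [← hα, ← Finset.card_univ, ← Finset.card_powersetCard]
      congr 1
      ext s
      simp only [P3, Finset.mem_filter, Finset.mem_powersetCard, Finset.mem_powerset]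
      constructor
      · rintro ⟨⟨h, -⟩, e⟩; exact ⟨h, e⟩
      · rintro ⟨h, e⟩; exact ⟨⟨h, by omega⟩, e⟩
    rw [Finset.sum_congr rfl this]
    decide
  have i3 : (P3.image q).card = 2325 := by
    rw [Finset.card_image_of_injOn, c3]
    intro s hs t ht h
    have a := (Finset.mem_filter.1 hs).2
    have b := (Finset.mem_filter.1 ht).2
    refine eq_of_word_mem C hmin ((Submodule.Quotient.eq C).1 h) ?_
    have := Finset.card_union_le s t
    have : symmDiff s t ⊆ s ∪ t := symmDiff_le_sup
    have := Finset.card_le_card this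
    omega
  letI := Fintype.ofFinite ((α → ZMod 2) ⧸ C)
  have h1 := (Finset.card_le_univ (P3.image q))
  rw [i3, Module.card_eq_pow_finrank (K := ZMod 2), ZMod.card] at h1
  have h2 := Submodule.finrank_quotient_add_finrank C
  rw [Module.finrank_fintype_fun_eq_card, hα] at h2
  by_contra h
  have : 2 ^ Module.finrank (ZMod 2) ((α → ZMod 2) ⧸ C) ≤ 2 ^ 11 :=
    Nat.pow_le_pow_right (by norm_num) (by omega)
  omega

theorem card_octads_le (hα : Fintype.card α = 24) (C : Submodule (ZMod 2) (α → ZMod 2))
    (hmin : ∀ w ∈ C, w ≠ 0 → 8 ≤ hammingNorm w) (A : Finset (Finset α))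
    (hA : ∀ P ∈ A, word₂ P ∈ C ∧ P.card = 8) : A.card ≤ 759 := by
  classical
  have hd : (A : Set (Finset α)).PairwiseDisjoint fun P => P.powersetCard 5 := by
    intro P hP Q hQ hne
    rw [Function.onFun, Finset.disjoint_left]
    intro F hF hF'
    rw [Finset.mem_powersetCard] at hF hF'
    refine hne (eq_of_word_mem C hmin (sub_mem (hA P hP).1 (hA Q hQ).1) ?_)
    have h5 : 5 ≤ (P ∩ Q).card := hF.2 ▸ Finset.card_le_card (Finset.subset_inter hF.1 hF'.1)
    have := card_symmDiff' P Q
    have := (hA P hP).2
    have := (hA Q hQ).2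
    omega
  have h := Finset.card_le_card
    (show A.biUnion (fun P => P.powersetCard 5) ⊆ (univ : Finset α).powersetCard 5 from
      Finset.biUnion_subset.2 fun P _ => Finset.powersetCard_mono (Finset.subset_univ P))
  rw [Finset.card_biUnion hd, Finset.sum_congr rfl fun P hP => by
      rw [Finset.card_powersetCard, (hA P hP).2], Finset.sum_const, Finset.card_powersetCard,
    Finset.card_univ, hα, smul_eq_mul, show Nat.choose 8 5 = 56 by decide,
    show Nat.choose 24 5 = 42504 by decide] at h
  omega

end Cfsg.Agent.LeechChar
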