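import Cfsg.Agent.Lib.LeechChar.Code
import Cfsg.Agent.Lib.LeechCount.Counts
import Cfsg.Agent.Lib.Leech.Stab
import Cfsg.Agent.Lib.Leech.Gen
import Cfsg.Agent.Lib.Steiner.SelfDual24

/-!
Lattices of integer vectors on 24 points which contain the standard frame and have the minimal
vectors of the Leech lattice in number: they are monomial images of `Cfsg.leechLattice`.
-/

set_option autoImplicit false

namespace Cfsg.Agent.LeechChar

open Cfsg Finset Cfsg.Agent.Leech Cfsg.Agent.Steiner

/-- The properties of the coordinate image of the lattice. -/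
structure CoordLat (M : AddSubgroup Vec) : Prop where
  dot : ∀ x ∈ M, ∀ y ∈ M, (8 : ℤ) ∣ dotInt x y
  sixteen : ∀ x ∈ M, (16 : ℤ) ∣ sqNorm x
  min32 : ∀ x ∈ M, x ≠ 0 → 32 ≤ sqNorm x
  mem8 : ∀ i, (Pi.single i 8 : Vec) ∈ M
  mem44 : ∀ i j, i ≠ j → (Pi.single i 4 + Pi.single j 4 : Vec) ∈ M
  count : {x : Vec | x ∈ M ∧ sqNorm x = 32}.ncard = 196560

theorem dot_single (x : Vec) (i : GolayPt) (c : ℤ) : dotInt x (Pi.single i c) = x i * c := by
  rw [dotInt, Finset.sum_eq_single i (fun j _ hj => by simp [hj]) (by simp), Pi.single_eq_same]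

theorem dot_add_right (x y z : Vec) : dotInt x (y + z) = dotInt x y + dotInt x z := by
  simp [dotInt, mul_add, Finset.sum_add_distrib]

theorem sum_single (i : GolayPt) (c : ℤ) : ∑ j, (Pi.single i c : Vec) j = c := by
  simp

variable {M : AddSubgroup Vec}

theorem CoordLat.parity (H : CoordLat M) {x : Vec} (hx : x ∈ M) (i j : GolayPt) :
    (2 : ℤ) ∣ x i - x j := by
  rcases eq_or_ne i j with rfl | h
  · simp
  have := H.dot x hx _ (H.mem44 i j h)
  rw [dot_add_right, dot_single, dot_single] at this
  omega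

theorem CoordLat.four_not_mem (H : CoordLat M) (i : GolayPt) {c : ℤ} (hc : c = 4 ∨ c = -4) :
    (Pi.single i c : Vec) ∉ M := fun hm => by
  have hn : sqNorm (Pi.single i c : Vec) = c * c := by
    rw [sqNorm, Finset.sum_eq_single i (fun j _ hj => by simp [hj]) (by simp), Pi.single_eq_same]; ring
  have := H.min32 _ hm (fun h => by rw [h] at hn; simp [sqNorm] at hn; omega)
  rw [hn] at this
  rcases hc with rfl | rfl <;> norm_num at this

theorem CoordLat.four_mem_iff (H : CoordLat M) (y : Vec) :
    ((4 : ℤ) • y) ∈ M ↔ (2 : ℤ) ∣ ∑ i, y i := by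
  have hd : ∀ i, (Pi.single i 4 - Pi.single none 4 : Vec) ∈ M := by
    intro i
    rcases eq_or_ne i none with rfl | h
    · simp
    · have h' := sub_mem (H.mem44 i none h) (H.mem8 none)
      convert h' using 1
      rw [add_sub_assoc, ← Pi.single_sub, show (4 : ℤ) - 8 = -4 by norm_num, Pi.single_neg, sub_eq_add_neg]
  have key : ((4 : ℤ) • y) = (∑ i, y i • (Pi.single i 4 - Pi.single none 4 : Vec)) + Pi.single none (4 * ∑ i, y i) := by
    funext j
    simp only [Pi.add_apply, Finset.sum_apply, Pi.smul_apply, Pi.sub_apply, smul_eq_mul, mul_sub,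
      Finset.sum_sub_distrib]
    rw [Finset.sum_eq_single j (fun i _ hi => by simp [hi.symm]) (by simp), Pi.single_eq_same, ← Finset.sum_mul]
    by_cases hj : j = none
    · subst hj; simp; ring
    · simp [hj]; ring
  have hs : (∑ i, y i • (Pi.single i 4 - Pi.single none 4 : Vec)) ∈ M :=
    sum_mem fun i _ => zsmul_mem (hd i) _
  rw [key, add_mem_cancel_left hs]
  have h8 : ∀ b : ℤ, (Pi.single none (8 * b) : Vec) ∈ M := fun b => by
    have := zsmul_mem (H.mem8 none) b
    rwa [← Pi.single_smul, smul_eq_mul, mul_comm] at this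
  rcases Int.even_or_odd' (∑ i, y i) with ⟨b, hb | hb⟩
  · rw [hb, ← mul_assoc]
    exact iff_of_true (h8 b) (dvd_mul_right 2 b)
  · rw [hb]
    refine iff_of_false (fun hm => H.four_not_mem none (Or.inl rfl) ?_) (by omega)
    have := sub_mem hm (h8 b)
    rwa [← Pi.single_sub, show 4 * (2 * b + 1) - 8 * b = 4 by ring] at this

theorem CoordLat.four_shift (H : CoordLat M) (y : Vec) (h : ¬ (2 : ℤ) ∣ ∑ i, y i) (q : GolayPt) :
    ((4 : ℤ) • y - Pi.single q 4) ∈ M := by
  have := (H.four_mem_iff (y - Pi.single q 1)).2 (by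
    simp only [Pi.sub_apply, Finset.sum_sub_distrib, sum_single]; omega)
  rwa [smul_sub, ← Pi.single_smul, smul_eq_mul, mul_one] at this

/-- The words of the vectors with even entries. -/
def CoordLat.code (M : AddSubgroup Vec) : Submodule (ZMod 2) (GolayPt → ZMod 2) :=
  AddSubgroup.toZModSubmodule 2
    { carrier := {w | ∃ x ∈ M, (∀ i, (2 : ℤ) ∣ x i) ∧ ∀ i, ((x i / 2 : ℤ) : ZMod 2) = w i}
      zero_mem' := ⟨0, zero_mem M, by simp, by simp⟩
      add_mem' := by
        rintro v w ⟨x, hx, hx2, hxv⟩ ⟨y, hy, hy2, hyw⟩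
        refine ⟨x + y, add_mem hx hy, fun i => dvd_add (hx2 i) (hy2 i), fun i => ?_⟩
        rw [Pi.add_apply, Pi.add_apply, ← hxv, ← hyw, ← Int.cast_add, Int.add_ediv_of_dvd_left (hx2 i)]
      neg_mem' := by
        rintro v ⟨x, hx, hx2, hxv⟩
        refine ⟨-x, neg_mem hx, fun i => dvd_neg.2 (hx2 i), fun i => ?_⟩
        rw [Pi.neg_apply, Pi.neg_apply, ← hxv, ← Int.cast_neg, Int.neg_ediv_of_dvd (hx2 i)] }

theorem mem_code {w : GolayPt → ZMod 2} :
    w ∈ CoordLat.code M ↔ ∃ x ∈ M, (∀ i, (2 : ℤ) ∣ x i) ∧ ∀ i, ((x i / 2 : ℤ) : ZMod 2) = w i := Iff.rfl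

theorem cast_half_eq_zero {a : ℤ} (ha : (2 : ℤ) ∣ a) : ((a / 2 : ℤ) : ZMod 2) = 0 ↔ (4 : ℤ) ∣ a := by
  rw [ZMod.intCast_zmod_eq_zero_iff_dvd]
  omega

theorem word_pat {x : Vec} (h2 : ∀ i, (2 : ℤ) ∣ x i) :
    (fun i => ((x i / 2 : ℤ) : ZMod 2)) = word₂ (pat 0 x) := by
  funext i
  have hz := cast_half_eq_zero (h2 i)
  have h01 : ∀ a : ZMod 2, a = 0 ∨ a = 1 := by decide
  by_cases h : i ∈ pat 0 x
  · rw [mem_pat, sub_zero] at h
    simp only [word₂, mem_pat, sub_zero, h, not_false_eq_true, if_true]
    exact (h01 _).resolve_left fun e => h (hz.1 e)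
  · rw [mem_pat, sub_zero, not_not] at h
    simp only [word₂, mem_pat, sub_zero, h, not_true, if_false]
    exact hz.2 h

theorem pat_mem_code {x : Vec} (hx : x ∈ M) (h2 : ∀ i, (2 : ℤ) ∣ x i) :
    word₂ (pat 0 x) ∈ CoordLat.code M := ⟨x, hx, h2, fun i => congrFun (word_pat h2) i⟩

/-- A pattern vector: entries two, one of them possibly opposite. -/
theorem CoordLat.twoVec_or (H : CoordLat M) {x : Vec} (hx : x ∈ M) (h2 : ∀ i, (2 : ℤ) ∣ x i) :
    twoVec (pat 0 x) ∈ M ∨ ∀ q, twoVec (pat 0 x) + Pi.single q 4 ∈ M := by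
  let y : Vec := fun i => (x i - twoVec (pat 0 x) i) / 4
  have hy : x = twoVec (pat 0 x) + (4 : ℤ) • y := by
    funext i
    have := h2 i
    simp only [Pi.add_apply, Pi.smul_apply, smul_eq_mul, y, twoVec, mem_pat, sub_zero]
    split <;> omega
  by_cases hs : (2 : ℤ) ∣ ∑ i, y i
  · left
    have := sub_mem hx ((H.four_mem_iff y).2 hs)
    rwa [sub_eq_of_eq_add hy] at this
  · right
    intro q
    have := sub_mem hx (H.four_shift y hs q)
    convert this using 1
    conv_rhs => arg 1; rw [hy]
    abel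

theorem twoVec_sqNorm (P : Finset GolayPt) : sqNorm (twoVec P) = 4 * P.card := by
  simp only [sqNorm, twoVec, ite_pow, zero_pow two_ne_zero]
  rw [sum_indicator]; norm_num

theorem CoordLat.code_min (H : CoordLat M) : ∀ w ∈ CoordLat.code M, w ≠ 0 → 8 ≤ hammingNorm w := by
  rintro w ⟨x, hx, hx2, hxw⟩ hw
  have ew : w = word₂ (pat 0 x) := by rw [← word_pat hx2]; funext i; exact (hxw i).symm
  obtain ⟨p, hp⟩ : (pat 0 x).Nonempty := by
    rw [Finset.nonempty_iff_ne_empty]
    intro h; apply hw; rw [ew, h]; funext i; simp [word₂]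
  have hv : ∃ v ∈ M, sqNorm v = 4 * (pat 0 x).card := by
    rcases H.twoVec_or hx hx2 with h | h
    · exact ⟨_, h, twoVec_sqNorm _⟩
    · refine ⟨_, sub_mem (h p) (H.mem8 p), ?_⟩
      rw [← twoVec_sqNorm]
      refine Finset.sum_congr rfl fun i _ => ?_
      rcases eq_or_ne i p with rfl | hne
      · simp [twoVec, hp]
      · simp [hne]
  obtain ⟨v, hvM, hvn⟩ := hv
  have hpos := Finset.card_pos.2 ⟨p, hp⟩
  have hmin := H.min32 v hvM (fun h => by rw [h, show sqNorm (0 : Vec) = 0 by simp [sqNorm]] at hvn; omega)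
  rw [hvn] at hmin
  rw [ew, hammingNorm_word₂]
  omega

/-- Counting the minimal vectors forces a code of dimension twelve and an odd vector. -/
theorem CoordLat.code_full (H : CoordLat M) :
    Module.finrank (ZMod 2) (CoordLat.code M) = 12 ∧ ∃ r ∈ M, ∀ i, ¬ (2 : ℤ) ∣ r i := by
  classical
  let C := CoordLat.code M
  let Cf : Finset (GolayPt → ZMod 2) := univ.filter fun w => w ∈ C
  have hd : Module.finrank (ZMod 2) C ≤ 12 := finrank_le_twelve card_pt C H.code_min
  have hC : Cf.card = 2 ^ Module.finrank (ZMod 2) C := by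
    rw [← Fintype.card_subtype, Module.card_eq_pow_finrank (K := ZMod 2), ZMod.card]
  have hfin : {x : Vec | x ∈ M ∧ sqNorm x = 32}.Finite :=
    Set.finite_of_ncard_ne_zero (by rw [H.count]; norm_num)
  let S := hfin.toFinset
  have hS : ∀ x, x ∈ S ↔ x ∈ M ∧ sqNorm x = 32 := fun x => hfin.mem_toFinset
  have hc : S.card = 196560 := by rw [← Set.ncard_eq_toFinset_card _ hfin]; exact H.count
  let Se := S.filter fun x => (2 : ℤ) ∣ x none
  let So := S.filter fun x => ¬ (2 : ℤ) ∣ x none
  let S0 := Se.filter fun x => pat 0 x = ∅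
  let S2 := Se.filter fun x => ¬ pat 0 x = ∅
  have hsplit : S0.card + S2.card + So.card = 196560 := by
    rw [← hc, Finset.card_filter_add_card_filter_not, Finset.card_filter_add_card_filter_not]
  have hSe : ∀ x ∈ Se, x ∈ M ∧ sqNorm x = 32 ∧ ∀ i, (2 : ℤ) ∣ x i := fun x hx => by
    obtain ⟨h, h2⟩ := Finset.mem_filter.1 hx
    obtain ⟨hm, hn⟩ := (hS x).1 h
    exact ⟨hm, hn, fun i => by have := H.parity hm i none; omega⟩
  have hSo : ∀ x ∈ So, x ∈ M ∧ sqNorm x = 32 ∧ ∀ i, ¬ (2 : ℤ) ∣ x i := fun x hx => by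
    obtain ⟨h, h2⟩ := Finset.mem_filter.1 hx
    obtain ⟨hm, hn⟩ := (hS x).1 h
    exact ⟨hm, hn, fun i => by have := H.parity hm i none; omega⟩
  -- entries divisible by four
  have b0 : S0.card ≤ 4 * 276 := by
    let supp : Vec → Finset GolayPt := fun x => univ.filter fun i => x i ≠ 0
    have h0 : ∀ x ∈ S0, (∀ i, x i = 0 ∨ x i = 4 ∨ x i = -4) ∧ (supp x).card = 2 := by
      intro x hx
      obtain ⟨he, hp⟩ := Finset.mem_filter.1 hx
      obtain ⟨-, hn, -⟩ := hSe x he
      have h4 : ∀ i, (4 : ℤ) ∣ x i := fun i => by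
        by_contra hc'
        have : i ∈ pat 0 x := mem_pat.2 (by simpa using hc')
        simp [hp] at this
      have hv : ∀ i, x i = 0 ∨ x i = 4 ∨ x i = -4 := fun i => by
        obtain ⟨b, hb⟩ := h4 i
        have h1 : x i ^ 2 ≤ sqNorm x :=
          Finset.single_le_sum (f := fun j => x j ^ 2) (fun j _ => sq_nonneg _) (Finset.mem_univ i)
        have hb1 : -1 ≤ b ∧ b ≤ 1 := by constructor <;> nlinarith
        omega
      refine ⟨hv, ?_⟩
      have : sqNorm x = ∑ i, if i ∈ supp x then (16 : ℤ) else 0 := Finset.sum_congr rfl fun i _ => by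
        rcases hv i with h | h | h <;> simp [supp, h]
      rw [sum_indicator, hn] at this
      omega
    refine (Finset.card_le_mul_card_image S0 4 (f := supp) fun a ha => ?_).trans ?_
    · obtain ⟨u, hu, rfl⟩ := Finset.mem_image.1 ha
      refine le_trans (Finset.card_le_card_of_injOn (fun x => (supp x).filter fun i => x i = 4)
        (t := (supp u).powerset) (fun x hx => ?_) ?_) ?_
      · rw [Finset.mem_coe, Finset.mem_filter] at hx
        rw [Finset.mem_coe, Finset.mem_powerset, ← hx.2]
        exact Finset.filter_subset _ _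
      · intro x hx x' hx' he
        rw [Finset.mem_coe, Finset.mem_filter] at hx hx'
        funext i
        have e1 := Finset.ext_iff.1 he i
        have e2 := Finset.ext_iff.1 (hx.2.trans hx'.2.symm) i
        simp only [supp, Finset.mem_filter, Finset.mem_univ, true_and] at e1 e2
        rcases (h0 x hx.1).1 i with h | h | h <;> rcases (h0 x' hx'.1).1 i with h' | h' | h' <;>
          simp [h, h'] at e1 e2 ⊢
      · rw [Finset.card_powerset, (h0 u hu).2]; norm_num
    · refine Nat.mul_le_mul_left 4 ?_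
      refine (Finset.card_le_card (t := (univ : Finset GolayPt).powersetCard 2) fun a ha => ?_).trans ?_
      · obtain ⟨u, hu, rfl⟩ := Finset.mem_image.1 ha
        exact Finset.mem_powersetCard.2 ⟨Finset.subset_univ _, (h0 u hu).2⟩
      · rw [Finset.card_powersetCard, Finset.card_univ, card_pt]; decide
  -- octad patterns
  have b2 : S2.card ≤ 128 * 759 := by
    have h2 : ∀ x ∈ S2, word₂ (pat 0 x) ∈ C ∧ (pat 0 x).card = 8 ∧
        ∀ i, (i ∈ pat 0 x → x i = 2 ∨ x i = -2) ∧ (i ∉ pat 0 x → x i = 0) := by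
      intro x hx
      obtain ⟨he, hp⟩ := Finset.mem_filter.1 hx
      obtain ⟨hm, hn, h2⟩ := hSe x he
      have hw := pat_mem_code hm h2
      have h8 : 8 ≤ (pat 0 x).card := by
        have := H.code_min _ hw (fun h => hp (by rw [← support₂_word₂ (pat 0 x), h]; simp [support₂]))
        rwa [hammingNorm_word₂] at this
      let g : GolayPt → ℤ := fun i => x i ^ 2 - if i ∈ pat 0 x then 4 else 0
      have g0 : ∀ i, 0 ≤ g i := fun i => by
        by_cases h : i ∈ pat 0 x
        · simp only [g, h, if_true]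
          rw [mem_pat, sub_zero] at h
          have h' : x i ≤ -2 ∨ 2 ≤ x i := by have := h2 i; omega
          rcases h' with h' | h' <;> nlinarith
        · simp [g, h, sq_nonneg]
      have hsum : ∑ i, g i = 32 - 4 * ((pat 0 x).card : ℤ) := by
        simp only [g, Finset.sum_sub_distrib]
        rw [sum_indicator, ← sqNorm, hn]
      have := Finset.sum_nonneg fun i (_ : i ∈ univ) => g0 i
      have hz := (Finset.sum_eq_zero_iff_of_nonneg fun i _ => g0 i).1 (show ∑ i, g i = 0 by omega)
      refine ⟨hw, by omega, fun i => ⟨fun h => ?_, fun h => ?_⟩⟩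
      · have := hz i (Finset.mem_univ i)
        simp only [g, h, if_true] at this
        exact sq_eq_sq_iff_eq_or_eq_neg.1 (by linarith : x i ^ 2 = (2 : ℤ) ^ 2)
      · have := hz i (Finset.mem_univ i)
        simp only [g, h, if_false, sub_zero] at this
        exact pow_eq_zero_iff two_ne_zero |>.1 this
    refine (Finset.card_le_mul_card_image S2 128 (f := pat 0) fun a ha => ?_).trans ?_
    · obtain ⟨u, hu, rfl⟩ := Finset.mem_image.1 ha
      obtain ⟨p, hp⟩ := Finset.card_pos.1 (show 0 < (pat 0 u).card by rw [(h2 u hu).2.1]; norm_num)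
      refine le_trans (Finset.card_le_card_of_injOn (fun x => ((pat 0 u).erase p).filter fun i => x i = 2)
        (t := ((pat 0 u).erase p).powerset) (fun x hx => ?_) ?_) ?_
      · exact Finset.mem_powerset.2 (Finset.filter_subset _ _)
      · intro x hx x' hx' he
        rw [Finset.mem_coe, Finset.mem_filter] at hx hx'
        obtain ⟨-, -, vx⟩ := h2 x hx.1
        obtain ⟨-, -, vx'⟩ := h2 x' hx'.1
        rw [hx.2] at vx
        rw [hx'.2] at vx'
        have hagree : ∀ i, i ≠ p → x i = x' i := fun i hi => by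
          by_cases h : i ∈ pat 0 u
          · have e1 := Finset.ext_iff.1 he i
            simp only [Finset.mem_filter, Finset.mem_erase, hi, h, ne_eq, not_false_eq_true, true_and] at e1
            rcases (vx i).1 h with a | a <;> rcases (vx' i).1 h with b | b <;> simp [a, b] at e1 ⊢
          · rw [(vx i).2 h, (vx' i).2 h]
        have hd' : x - x' = Pi.single p (x p - x' p) := by
          funext i
          rcases eq_or_ne i p with rfl | hi
          · simp
          · simp [hi, hagree i hi]
        have hm : x - x' ∈ M := sub_mem (hSe x (Finset.mem_filter.1 hx.1).1).1 (hSe x' (Finset.mem_filter.1 hx'.1).1).1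
        rw [hd'] at hm
        funext i
        rcases eq_or_ne i p with rfl | hi
        · rcases (vx i).1 hp with a | a <;> rcases (vx' i).1 hp with b | b <;> rw [a, b] at hm ⊢
          · exact absurd hm (H.four_not_mem i (by norm_num))
          · exact absurd hm (H.four_not_mem i (by norm_num))
        · exact hagree i hi
      · rw [Finset.card_powerset, Finset.card_erase_of_mem hp, (h2 u hu).2.1]; norm_num
    · refine Nat.mul_le_mul_left 128 (card_octads_le card_pt C H.code_min _ fun P hP => ?_)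
      obtain ⟨u, hu, rfl⟩ := Finset.mem_image.1 hP
      exact ⟨(h2 u hu).1, (h2 u hu).2.1⟩
  -- odd vectors
  have b1 : So.card ≤ 24 * Cf.card := by
    rcases So.eq_empty_or_nonempty with h | ⟨x0, hx0⟩
    · simp [h]
    obtain ⟨m0, -, o0⟩ := hSo x0 hx0
    let key : Vec → (GolayPt → ZMod 2) := fun x => word₂ (pat 0 (x - x0))
    refine (Finset.card_le_mul_card_image So 24 (f := key) fun a ha => ?_).trans ?_
    · have h3 : ∀ x ∈ So, ∃ p, ∀ i, (i = p → x i = 3 ∨ x i = -3) ∧ (i ≠ p → x i = 1 ∨ x i = -1) := by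
        intro x hx
        obtain ⟨-, hn, ho⟩ := hSo x hx
        have hb : ∀ i, x i = 1 ∨ x i = -1 ∨ x i = 3 ∨ x i = -3 := fun i => by
          have hle : x i ^ 2 + 23 ≤ sqNorm x := by
            rw [sqNorm, ← Finset.add_sum_erase _ _ (Finset.mem_univ i)]
            have : ∀ j ∈ univ.erase i, (1 : ℤ) ≤ x j ^ 2 := fun j _ => by
              have : x j ≠ 0 := fun h => ho j (by simp [h])
              have := sq_pos_of_ne_zero this
              omega
            have := Finset.sum_le_sum this
            rw [Finset.sum_const, Finset.card_erase_of_mem (Finset.mem_univ i), Finset.card_univ, card_pt,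
              nsmul_eq_mul, mul_one] at this
            push_cast at this
            omega
          have hb3 : -3 ≤ x i ∧ x i ≤ 3 := by constructor <;> nlinarith
          have := ho i
          omega
        let T := univ.filter fun i => x i = 3 ∨ x i = -3
        have hT : sqNorm x = ∑ i, ((1 : ℤ) + if i ∈ T then 8 else 0) := Finset.sum_congr rfl fun i _ => by
          rcases hb i with h | h | h | h <;> simp [T, h]
        rw [Finset.sum_add_distrib, sum_indicator, hn, Finset.sum_const, Finset.card_univ, card_pt,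
          nsmul_eq_mul, mul_one] at hT
        push_cast at hT
        obtain ⟨p, hp⟩ := Finset.card_eq_one.1 (show T.card = 1 by omega)
        refine ⟨p, fun i => ⟨fun h => ?_, fun h => ?_⟩⟩
        · have : i ∈ T := by rw [hp, h]; exact Finset.mem_singleton_self p
          simpa [T] using this
        · have : i ∉ T := by rw [hp]; simpa using h
          simp [T] at this
          rcases hb i with h' | h' | h' | h' <;> omega
      choose! pos hpos using h3
      refine le_trans (Finset.card_le_card_of_injOn pos (t := (univ : Finset GolayPt))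
        (fun x _ => Finset.mem_univ _) ?_) (le_of_eq (by rw [Finset.card_univ, card_pt]))
      intro x hx x' hx' he
      rw [Finset.mem_coe, Finset.mem_filter] at hx hx'
      have hpat : pat 0 (x - x0) = pat 0 (x' - x0) := by
        have := congrArg support₂ (hx.2.trans hx'.2.symm)
        simpa only [key, support₂_word₂] using this
      funext i
      have a := hpos x hx.1 i
      have b := hpos x' hx'.1 i
      have c := o0 i
      have e := Finset.ext_iff.1 hpat i
      simp only [mem_pat, Pi.sub_apply, sub_zero] at e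
      rw [he] at a
      rcases eq_or_ne i (pos x') with h | h
      · rcases a.1 h with q | q <;> rcases b.1 h with q' | q' <;> omega
      · rcases a.2 h with q | q <;> rcases b.2 h with q' | q' <;> omega
    · refine Nat.mul_le_mul_left 24 (Finset.card_le_card fun a ha => ?_)
      obtain ⟨x, hx, rfl⟩ := Finset.mem_image.1 ha
      obtain ⟨hm, -, ho⟩ := hSo x hx
      exact Finset.mem_filter.2 ⟨Finset.mem_univ _, pat_mem_code (sub_mem hm m0)
        fun i => by have := ho i; have := o0 i; simp only [Pi.sub_apply]; omega⟩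
  have hd' : 12 ≤ Module.finrank (ZMod 2) C := by
    by_contra h
    have : Cf.card ≤ 2 ^ 11 := hC ▸ Nat.pow_le_pow_right (by norm_num) (by omega)
    omega
  obtain ⟨r, hr⟩ := Finset.card_pos.1 (show 0 < So.card by omega)
  exact ⟨le_antisymm hd hd', r, (hSo r hr).1, (hSo r hr).2.2⟩

end Cfsg.Agent.LeechChar
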