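import Cfsg.Agent.Lib.LeechChar.Coord

/-!
A coordinate lattice is carried onto `Cfsg.leechLattice` by a monomial map.
-/

set_option autoImplicit false

namespace Cfsg.Agent.LeechChar

open Cfsg Finset Cfsg.Agent.Leech Cfsg.Agent.Steiner

variable {M : AddSubgroup Vec}

/-- Relabelling and signs. -/
def mono (e : Equiv.Perm GolayPt) (s : GolayPt → ℤ) : Vec →+ Vec where
  toFun x p := s p * x (e.symm p)
  map_zero' := funext fun p => by simp
  map_add' x y := funext fun p => by simp [mul_add]

theorem mono_apply (e : Equiv.Perm GolayPt) (s : GolayPt → ℤ) (x : Vec) (p : GolayPt) :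
    mono e s x p = s p * x (e.symm p) := rfl

variable {e : Equiv.Perm GolayPt} {s : GolayPt → ℤ}

theorem sign_sq (hs : ∀ p, s p = 1 ∨ s p = -1) (p : GolayPt) : s p * s p = 1 := by
  rcases hs p with h | h <;> simp [h]

theorem mono_dot (hs : ∀ p, s p = 1 ∨ s p = -1) (x y : Vec) :
    dotInt (mono e s x) (mono e s y) = dotInt x y := by
  refine Eq.trans ?_ (Equiv.sum_comp e.symm fun p => x p * y p)
  refine Finset.sum_congr rfl fun p _ => ?_
  rw [mono_apply, mono_apply]
  linear_combination (x (e.symm p) * y (e.symm p)) * sign_sq hs p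

theorem mono_norm (hs : ∀ p, s p = 1 ∨ s p = -1) (x : Vec) : sqNorm (mono e s x) = sqNorm x := by
  have := mono_dot (e := e) hs x x
  simpa only [dotInt, sqNorm, ← sq] using this

theorem mono_injective (hs : ∀ p, s p = 1 ∨ s p = -1) : Function.Injective (mono e s) := fun x y h => by
  funext i
  have := congrFun h (e i)
  rw [mono_apply, mono_apply, e.symm_apply_apply] at this
  exact mul_left_cancel₀ (by rcases hs (e i) with h | h <;> simp [h]) this

theorem mono_single (hs : ∀ p, s p = 1 ∨ s p = -1) (p : GolayPt) (c : ℤ) :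
    mono e s (Pi.single (e.symm p) (s p * c)) = Pi.single p c := by
  funext q
  rw [mono_apply]
  rcases eq_or_ne q p with rfl | h
  · rw [Pi.single_eq_same, Pi.single_eq_same, ← mul_assoc, sign_sq hs, one_mul]
  · rw [Pi.single_eq_of_ne (fun h' => h (e.symm.injective h')), Pi.single_eq_of_ne h, mul_zero]

theorem CoordLat.map_mono (H : CoordLat M) (hs : ∀ p, s p = 1 ∨ s p = -1) :
    CoordLat (M.map (mono e s)) where
  dot := by
    rintro _ ⟨x, hx, rfl⟩ _ ⟨y, hy, rfl⟩
    rw [mono_dot hs]; exact H.dot x hx y hy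
  sixteen := by
    rintro _ ⟨x, hx, rfl⟩
    rw [mono_norm hs]; exact H.sixteen x hx
  min32 := by
    rintro _ ⟨x, hx, rfl⟩ h
    rw [mono_norm hs]
    exact H.min32 x hx fun h' => h (by rw [h', map_zero])
  mem8 := fun p => ⟨_, by
    rcases hs p with h | h <;> rw [h]
    · rw [one_mul]; exact H.mem8 _
    · rw [neg_one_mul, Pi.single_neg]; exact neg_mem (H.mem8 _), mono_single hs p 8⟩
  mem44 := fun p q h => by
    refine ⟨Pi.single (e.symm p) (s p * 4) + Pi.single (e.symm q) (s q * 4), ?_, ?_⟩
    · have := (H.four_mem_iff (Pi.single (e.symm p) (s p) + Pi.single (e.symm q) (s q))).2 (by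
        simp only [Pi.add_apply, Finset.sum_add_distrib, sum_single]
        rcases hs p with h1 | h1 <;> rcases hs q with h2 | h2 <;> rw [h1, h2] <;> norm_num)
      rwa [smul_add, ← Pi.single_smul, ← Pi.single_smul, smul_eq_mul, smul_eq_mul, mul_comm,
        mul_comm (4 : ℤ) (s q)] at this
    · rw [map_add, mono_single hs p 4, mono_single hs q 4]
  count := by
    conv_rhs => rw [← H.count, ← Set.ncard_image_of_injective _ (mono_injective (e := e) hs)]
    congr 1
    ext y
    simp only [Set.mem_image, Set.mem_ofPred_eq, AddSubgroup.mem_map]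
    constructor
    · rintro ⟨⟨x, hx, rfl⟩, hn⟩; exact ⟨x, ⟨hx, by rwa [mono_norm hs] at hn⟩, rfl⟩
    · rintro ⟨x, ⟨hx, hn⟩, rfl⟩; exact ⟨⟨x, hx, rfl⟩, by rwa [mono_norm hs]⟩

/-- A coordinate lattice with Golay patterns and an odd vector congruent to one modulo four is
the Leech lattice. -/
theorem CoordLat.eq_leech (H : CoordLat M) (hC : ∀ x ∈ M, (∀ i, (2 : ℤ) ∣ x i) → InC (pat 0 x))
    {r : Vec} (hr : r ∈ M) (hr4 : ∀ i, (4 : ℤ) ∣ r i - 1) : M = leechLattice := by
  classical
  let a : Vec := fun i => (r i - 1) / 4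
  have ha : ∀ i, r i = 1 + 4 * a i := fun i => by
    have := hr4 i
    simp only [a]; omega
  have hrpat : pat 1 r = ∅ := by
    ext i; have := hr4 i; simp [mem_pat, this]
  have hrsum : ∑ i, r i = 24 + 4 * ∑ i, a i := by
    rw [Finset.sum_congr rfl fun i _ => ha i, Finset.sum_add_distrib, ← Finset.mul_sum,
      Finset.sum_const, Finset.card_univ, card_pt]
    norm_num
  have hrn : sqNorm r = 24 + 8 * ∑ i, a i + 16 * ∑ i, a i ^ 2 := by
    rw [sqNorm, Finset.sum_congr rfl fun i _ => show r i ^ 2 = 1 + 8 * a i + 16 * a i ^ 2 by rw [ha]; ring,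
      Finset.sum_add_distrib, Finset.sum_add_distrib, ← Finset.mul_sum, ← Finset.mul_sum,
      Finset.sum_const, Finset.card_univ, card_pt]
    norm_num
  have hrL : LatM 1 r := by
    refine ⟨fun i => by have := hr4 i; omega, ?_, hrpat ▸ InC_empty⟩
    have := H.sixteen r hr
    omega
  have heven : ∀ x ∈ M, (∀ i, (2 : ℤ) ∣ x i) → LatM 0 x := by
    intro x hx h2
    have hP := hC x hx h2
    have hd : (8 : ℤ) ∣ dotInt r (twoVec (pat 0 x)) := by
      have e : dotInt r (twoVec (pat 0 x)) =
          2 * ((pat 0 x).card : ℤ) + 8 * ∑ i ∈ pat 0 x, a i := by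
        rw [dotInt, ← Finset.sum_subset (Finset.subset_univ (pat 0 x))
          (fun i _ hi => by simp [twoVec, hi]), Finset.mul_sum, mul_comm, Finset.cast_card,
          Finset.sum_mul, ← Finset.sum_add_distrib]
        exact Finset.sum_congr rfl fun i hi => by rw [ha i]; simp [twoVec, hi]; ring
      have := InC_four_dvd hP
      omega
    have htw : twoVec (pat 0 x) ∈ M := by
      rcases H.twoVec_or hx h2 with h | h
      · exact h
      · have := H.dot r hr _ (h none)
        rw [dot_add_right, dot_single] at this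
        have := hr4 none
        omega
    let y : Vec := fun i => (x i - twoVec (pat 0 x) i) / 4
    have hy : x - twoVec (pat 0 x) = (4 : ℤ) • y := by
      funext i
      have := h2 i
      simp only [Pi.sub_apply, Pi.smul_apply, smul_eq_mul, y, twoVec, mem_pat, sub_zero]
      split <;> omega
    have hs := (H.four_mem_iff y).1 (hy ▸ sub_mem hx htw)
    refine ⟨fun i => by simpa using h2 i, ?_, hP⟩
    have hsum : ∑ i, x i = 2 * ((pat 0 x).card : ℤ) + 4 * ∑ i, y i := by
      rw [show x = twoVec (pat 0 x) + (4 : ℤ) • y by rw [← hy]; abel]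
      simp only [Pi.add_apply, Finset.sum_add_distrib, Pi.smul_apply, smul_eq_mul, ← Finset.mul_sum]
      rw [← show x = twoVec (pat 0 x) + (4 : ℤ) • y by rw [← hy]; abel]
      simp only [twoVec]
      rw [sum_indicator]
    have := InC_four_dvd hP
    omega
  have hle : M ≤ leechLattice := by
    intro x hx
    by_cases h : (2 : ℤ) ∣ x none
    · exact (mem_leech_iff x).2 ⟨0, heven x hx fun i => by have := H.parity hx i none; omega⟩
    · have hd := heven (x - r) (sub_mem hx hr) fun i => by
        have := H.parity hx i none; have := hr4 i; simp only [Pi.sub_apply]; omega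
      exact (mem_leech_iff x).2 ⟨0 + 1, by simpa using hd.add hrL⟩
  refine le_antisymm hle (le_of_min fun x hx hn => ?_)
  have hfin : {x : Vec | x ∈ leechLattice ∧ sqNorm x = 32}.Finite :=
    Set.finite_of_ncard_ne_zero (by
      rw [LeechCount.setOf_norm_eq, LeechCount.short32]; norm_num)
  have heq := Set.eq_of_subset_of_ncard_le (s := {x : Vec | x ∈ M ∧ sqNorm x = 32})
    (t := {x : Vec | x ∈ leechLattice ∧ sqNorm x = 32}) (fun y hy => ⟨hle hy.1, hy.2⟩)
    (by rw [H.count, LeechCount.setOf_norm_eq, LeechCount.short32]) hfin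
  exact (heq.symm ▸ (show x ∈ {x : Vec | x ∈ leechLattice ∧ sqNorm x = 32} from ⟨hx, hn⟩) :
    x ∈ {x : Vec | x ∈ M ∧ sqNorm x = 32}).1

/-- Every coordinate lattice is a monomial image of the Leech lattice. -/
theorem CoordLat.exists_mono (H : CoordLat M) :
    ∃ (e : Equiv.Perm GolayPt) (s : GolayPt → ℤ), (∀ p, s p = 1 ∨ s p = -1) ∧
      M.map (mono e s) = leechLattice := by
  classical
  obtain ⟨hdim, r, hr, ho⟩ := H.code_full
  obtain ⟨e, he⟩ := exists_golay_relabel card_pt _ hdim H.code_min
  let s : GolayPt → ℤ := fun p => if (4 : ℤ) ∣ r (e.symm p) - 1 then 1 else -1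
  have hs : ∀ p, s p = 1 ∨ s p = -1 := fun p => by simp only [s]; split <;> simp
  refine ⟨e, s, hs, (H.map_mono hs).eq_leech ?_ (r := mono e s r) ⟨r, hr, rfl⟩ fun p => ?_⟩
  · rintro _ ⟨x, hx, rfl⟩ h2
    have hx2 : ∀ i, (2 : ℤ) ∣ x i := fun i => by
      have := h2 (e i)
      rw [mono_apply, e.symm_apply_apply] at this
      rcases hs (e i) with h | h <;> rw [h] at this <;> omega
    refine ⟨_, (he _).1 (pat_mem_code hx hx2), ?_⟩
    ext p
    simp only [support₂, word₂, Finset.mem_filter, Finset.mem_univ, true_and, mem_pat, mono_apply, sub_zero]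
    rcases hs p with h | h <;> rw [h] <;> by_cases h4 : (4 : ℤ) ∣ x (e.symm p) <;> simp [h4]
  · have := ho (e.symm p)
    rw [mono_apply]
    simp only [s]
    split <;> omega

end Cfsg.Agent.LeechChar
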