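import Cfsg.Agent.S1588
import Cfsg.Agent.Lib.LeechChar.Monomial

/-!
Coordinates with respect to a frame of 24 pairwise orthogonal norm-eight vectors.
-/

set_option autoImplicit false

namespace Cfsg.Agent.LeechChar

open Cfsg Cfsg.Agent.Leech Cfsg.Agent.LeechCount Matrix

variable {n : ℕ} {B : Matrix (Fin n) (Fin n) ℤ}

theorem bil_zero_left (x : Fin n → ℤ) : bil B 0 x = 0 := by simp [bil]

theorem bil_neg_neg (x : Fin n → ℤ) : bil B (-x) (-x) = bil B x x := by
  simp [bil, Matrix.mulVec_neg]

/-- Orthogonal vectors of non-zero norm are at most as many as the dimension. -/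
theorem orth_card_le {ι : Type*} [Fintype ι] (v : ι → Fin n → ℤ) (hn : ∀ i, bil B (v i) (v i) ≠ 0)
    (ho : ∀ i j, i ≠ j → bil B (v i) (v j) = 0) : Fintype.card ι ≤ n := by
  classical
  have hli : LinearIndependent ℤ v := by
    rw [Fintype.linearIndependent_iff]
    intro g hg a
    have h0 : bil B (v a) (∑ b, g b • v b) = 0 := by rw [hg]; simp [bil]
    have : bil B (v a) (∑ b, g b • v b) = ∑ b, g b * bil B (v a) (v b) := by
      simp only [bil, Matrix.mulVec_sum, dotProduct_sum, Matrix.mulVec_smul, dotProduct_smul, smul_eq_mul]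
    rw [this, Finset.sum_eq_single a (fun b _ hb => by rw [ho a b (Ne.symm hb), mul_zero]) (by simp)] at h0
    exact (mul_eq_zero.1 h0).resolve_right (hn a)
  have := hli.fintype_card_le_finrank
  rwa [Module.finrank_fintype_fun_eq_card, Fintype.card_fin] at this

/-- A frame. -/
theorem exists_frame (B : Matrix (Fin 24) (Fin 24) ℤ) (hsymm : B.IsSymm)
    (hpos : ∀ x, x ≠ 0 → 0 < bil B x x) (heven : ∀ x, (2 : ℤ) ∣ bil B x x) (h2 : ∀ x, bil B x x ≠ 2)
    (x0 : Fin 24 → ℤ)
    (h48 : {y : Fin 24 → ℤ | bil B y y = 8 ∧ ∀ i, (2 : ℤ) ∣ (x0 - y) i}.ncard = 48) :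
    ∃ f : GolayPt → Fin 24 → ℤ, (∀ i, bil B (f i) (f i) = 8) ∧
      (∀ i j, i ≠ j → bil B (f i) (f j) = 0) ∧ ∀ i j k, (2 : ℤ) ∣ (f i - f j) k := by
  classical
  have hfin : {y : Fin 24 → ℤ | bil B y y = 8 ∧ ∀ i, (2 : ℤ) ∣ (x0 - y) i}.Finite :=
    Set.finite_of_ncard_ne_zero (by rw [h48]; norm_num)
  let S := hfin.toFinset
  have hS : ∀ y, y ∈ S ↔ bil B y y = 8 ∧ ∀ i, (2 : ℤ) ∣ (x0 - y) i := fun y => hfin.mem_toFinset
  have hc : S.card = 48 := by rw [← Set.ncard_eq_toFinset_card _ hfin]; exact h48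
  have hneg : ∀ y ∈ S, -y ∈ S := fun y hy => by
    obtain ⟨a, b⟩ := (hS y).1 hy
    exact (hS _).2 ⟨by rw [bil_neg_neg, a], fun i => by
      have := b i; simp only [Pi.sub_apply, Pi.neg_apply] at this ⊢; omega⟩
  let p : (Fin 24 → ℤ) → Finset (Fin 24 → ℤ) := fun v => {v, -v}
  have hne : ∀ y ∈ S, y ≠ -y := fun y hy h => by
    have hz : y = 0 := funext fun i => by
      have := congrFun h i; simp only [Pi.neg_apply] at this; simp only [Pi.zero_apply]; omega
    have := ((hS y).1 hy).1
    rw [hz, bil_zero_left] at this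
    omega
  have hfib : ∀ a ∈ S.image p, (S.filter fun w => p w = a).card = 2 := by
    intro a ha
    obtain ⟨v, hv, rfl⟩ := Finset.mem_image.1 ha
    have : (S.filter fun w => p w = p v) = p v := by
      ext w
      rw [Finset.mem_filter]
      constructor
      · rintro ⟨-, h⟩; rw [← h]; exact Finset.mem_insert_self _ _
      · intro hw
        rcases Finset.mem_insert.1 hw with rfl | hw
        · exact ⟨hv, rfl⟩
        · rw [Finset.mem_singleton] at hw; subst hw
          refine ⟨hneg v hv, ?_⟩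
          show ({-v, - -v} : Finset (Fin 24 → ℤ)) = {v, -v}
          rw [neg_neg, Finset.pair_comm]
    rw [this]
    exact Finset.card_pair (hne v hv)
  have h24 : (S.image p).card = 24 := by
    have := Finset.card_eq_sum_card_image p S
    rw [Finset.sum_congr rfl hfib, Finset.sum_const, smul_eq_mul, hc] at this
    omega
  obtain ⟨e⟩ : Nonempty (GolayPt ≃ ↥(S.image p)) :=
    Fintype.card_eq.1 (by rw [Fintype.card_coe, h24, card_pt])
  have hrep : ∀ i, ∃ v ∈ S, p v = e i := fun i => Finset.mem_image.1 (e i).2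
  choose f hf hfp using hrep
  refine ⟨f, fun i => ((hS _).1 (hf i)).1, fun i j hij => ?_, fun i j k => ?_⟩
  · rcases cong_two hsymm hpos heven h2 ((hS _).1 (hf i)).1.le ((hS _).1 (hf j)).1.le (fun k => by
      have := ((hS _).1 (hf i)).2 k; have := ((hS _).1 (hf j)).2 k
      simp only [Pi.sub_apply] at *; omega) with h | h | h
    · exact absurd (e.injective (Subtype.ext (by rw [← hfp i, ← hfp j, h]))) hij
    · refine absurd (e.injective (Subtype.ext ?_)) hij
      rw [← hfp i, ← hfp j, h]
      show ({f i, -f i} : Finset (Fin 24 → ℤ)) = {-f i, - -f i}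
      rw [neg_neg, Finset.pair_comm]
    · exact h.2.2
  · have := ((hS _).1 (hf i)).2 k; have := ((hS _).1 (hf j)).2 k
    simp only [Pi.sub_apply] at *; omega

/-- Coordinates with respect to a frame. -/
def coords (B : Matrix (Fin 24) (Fin 24) ℤ) (f : GolayPt → Fin 24 → ℤ) : (Fin 24 → ℤ) →+ Vec where
  toFun x i := bil B (f i) x
  map_zero' := funext fun i => by simp [bil]
  map_add' x y := funext fun i => bil_add_right (f i) x y

theorem coords_norm {B : Matrix (Fin 24) (Fin 24) ℤ} (hsymm : B.IsSymm)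
    (hpos : ∀ x, x ≠ 0 → 0 < bil B x x) {f : GolayPt → Fin 24 → ℤ}
    (hn : ∀ i, bil B (f i) (f i) = 8) (ho : ∀ i j, i ≠ j → bil B (f i) (f j) = 0) (x : Fin 24 → ℤ) :
    sqNorm (coords B f x) = 8 * bil B x x := by
  have hlin : ∀ z, bil B z (∑ i, bil B (f i) x • f i) = ∑ i, bil B (f i) x * bil B z (f i) := fun z => by
    simp only [bil, Matrix.mulVec_sum, dotProduct_sum, Matrix.mulVec_smul, dotProduct_smul, smul_eq_mul]
  let y := (8 : ℤ) • x - ∑ i, bil B (f i) x • f i
  have hy : ∀ j, bil B (f j) y = 0 := fun j => by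
    have h := bil_add_right (B := B) (f j) y (∑ i, bil B (f i) x • f i)
    rw [sub_add_cancel, bil_smul_right, hlin,
      Finset.sum_eq_single j (fun i _ hi => by rw [ho j i hi.symm, mul_zero]) (by simp), hn] at h
    linarith
  have y0 : y = 0 := by
    by_contra hy0
    have h25 := orth_card_le (B := B) (fun o : Option GolayPt => o.elim y f)
      (fun o => by
        cases o with
        | none => exact (hpos y hy0).ne'
        | some i => simp [hn i])
      (fun a b hab => by
        cases a with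
        | none =>
          cases b with
          | none => exact absurd rfl hab
          | some j => simp only [Option.elim]; rw [bil_symm hsymm]; exact hy j
        | some i =>
          cases b with
          | none => exact hy i
          | some j => exact ho i j fun h => hab (by rw [h]))
    rw [Fintype.card_option, card_pt] at h25
    omega
  have h := congrArg (bil B x) (sub_eq_zero.1 y0)
  rw [bil_smul_right, hlin] at h
  rw [h, sqNorm]
  exact Finset.sum_congr rfl fun i _ => by
    rw [bil_symm hsymm x (f i), sq]; rfl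

theorem coords_coordLat {B : Matrix (Fin 24) (Fin 24) ℤ} (hsymm : B.IsSymm)
    (hpos : ∀ x, x ≠ 0 → 0 < bil B x x) (heven : ∀ x, (2 : ℤ) ∣ bil B x x) (h2 : ∀ x, bil B x x ≠ 2)
    (h4 : {x : Fin 24 → ℤ | bil B x x = 4}.ncard = 196560)
    {f : GolayPt → Fin 24 → ℤ} (hn : ∀ i, bil B (f i) (f i) = 8)
    (ho : ∀ i j, i ≠ j → bil B (f i) (f j) = 0) (hcong : ∀ i j k, (2 : ℤ) ∣ (f i - f j) k) :
    Function.Injective (coords B f) ∧ CoordLat (coords B f).range := by
  have hN := coords_norm hsymm hpos hn ho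
  have hinj : Function.Injective (coords B f) := by
    rw [injective_iff_map_eq_zero]
    intro x hx
    by_contra hne
    have h := hN x
    rw [hx, show sqNorm (0 : Vec) = 0 by simp [sqNorm]] at h
    have := hpos x hne
    omega
  have hf : ∀ i, coords B f (f i) = Pi.single i 8 := fun i => funext fun j => by
    show bil B (f j) (f i) = _
    rcases eq_or_ne j i with rfl | h
    · rw [hn, Pi.single_eq_same]
    · rw [ho j i h, Pi.single_eq_of_ne h]
  refine ⟨hinj, ⟨?_, ?_, ?_, fun i => ⟨f i, hf i⟩, fun i j _ => ?_, ?_⟩⟩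
  · rintro _ ⟨x, rfl⟩ _ ⟨y, rfl⟩
    have e := sqNorm_add (coords B f x) (coords B f y)
    rw [← map_add, hN, hN, hN, bil_add_self hsymm] at e
    exact ⟨bil B x y, by linarith⟩
  · rintro _ ⟨x, rfl⟩
    rw [hN]; have := heven x; omega
  · rintro _ ⟨x, rfl⟩ hne
    rw [hN]
    have := four_le_bil hpos heven h2 (x := x) (fun h => hne (by rw [h, map_zero]))
    omega
  · refine ⟨fun k => (f i k + f j k) / 2, ?_⟩
    have e : (fun k => (f i k + f j k) / 2) + (fun k => (f i k + f j k) / 2) = f i + f j := funext fun k => by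
      have := hcong i j k; simp only [Pi.sub_apply] at this; simp only [Pi.add_apply]; omega
    have h' := congrArg (coords B f) e
    rw [map_add, map_add, hf, hf] at h'
    funext l
    have := congrFun h' l
    simp only [Pi.add_apply, Pi.single_apply] at this ⊢
    split_ifs at this ⊢ <;> omega
  · rw [← h4, ← Set.ncard_image_of_injective _ hinj]
    congr 1
    ext y
    simp only [Set.mem_image, Set.mem_ofPred_eq, AddMonoidHom.mem_range]
    constructor
    · rintro ⟨⟨x, rfl⟩, h⟩; exact ⟨x, by rw [hN] at h; omega, rfl⟩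
    · rintro ⟨x, h, rfl⟩; exact ⟨⟨x, rfl⟩, by rw [hN, h]; norm_num⟩

end Cfsg.Agent.LeechChar
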